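import Groth.Agent.DescLib.ModDesc.Equivalence
import Mathlib.LinearAlgebra.TensorProduct.Pi
import Mathlib.LinearAlgebra.Matrix.NonsingularInverse
import Mathlib.LinearAlgebra.Basis.VectorSpace

/-!
# A matrix cocycle for a faithfully flat algebra is locally a coboundary
-/

set_option autoImplicit false
set_option backward.isDefEq.respectTransparency.types false

universe u

open TensorProduct Matrix

namespace Groth.Agent.GLnSpecial

variable {R A : Type u} [CommRing R] [CommRing A] [Algebra R A] {n : ℕ}

local notation "AA" => A ⊗[R] A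

variable (R A) in
/-- The left inclusion. -/
abbrev iL : A →ₐ[R] AA := Algebra.TensorProduct.includeLeft

variable (R A) in
/-- The right inclusion. -/
abbrev iR : A →ₐ[R] AA := Algebra.TensorProduct.includeRight

variable (R A) in
/-- The coface omitting the first factor. -/
abbrev d₀ : AA →ₐ[R] A ⊗[R] AA := Algebra.TensorProduct.includeRight

variable (R A) in
/-- The coface omitting the middle factor. -/
abbrev d₁ : AA →ₐ[R] A ⊗[R] AA := Algebra.TensorProduct.map (AlgHom.id R A) (iR R A)

variable (R A) in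
/-- The coface omitting the last factor. -/
abbrev d₂ : AA →ₐ[R] A ⊗[R] AA := Algebra.TensorProduct.map (AlgHom.id R A) (iL R A)

variable (n) in
/-- Tensoring commutes with finite products. -/
noncomputable abbrev pr : A ⊗[R] (Fin n → A) ≃ₗ[A] (Fin n → AA) := TensorProduct.piRight R A A (fun _ : Fin n => A)

/-- The coaction on column vectors given by a matrix on the double product. -/
noncomputable def rhoMat (c : Matrix (Fin n) (Fin n) AA) : (Fin n → A) →ₗ[A] A ⊗[R] (Fin n → A) :=
  (pr n).symm.toLinearMap.comp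
    { toFun := fun v => c *ᵥ (fun j => v j ⊗ₜ[R] (1 : A))
      map_add' := fun v w => by
        rw [← Matrix.mulVec_add]
        exact congrArg _ (funext fun j => TensorProduct.add_tmul _ _ _)
      map_smul' := fun a v => by
        rw [RingHom.id_apply, ← Matrix.mulVec_smul]
        exact congrArg _ (funext fun j => (TensorProduct.smul_tmul' a (v j) (1 : A)).symm) }

theorem pr_rhoMat (c : Matrix (Fin n) (Fin n) AA) (v : Fin n → A) (i : Fin n) :
    pr n (rhoMat c v) i = ∑ j, c i j * (v j ⊗ₜ[R] (1 : A)) := by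
  show pr n ((pr n).symm _) i = _
  rw [LinearEquiv.apply_symm_apply]
  rfl

theorem pr_tmul (a : A) (w : Fin n → A) (i : Fin n) : pr n (a ⊗ₜ[R] w) i = a ⊗ₜ[R] w i := by
  simp

theorem coassoc_rhoMat {c : Matrix (Fin n) (Fin n) AA} (hcoc : c.map (d₁ R A) = c.map (d₀ R A) * c.map (d₂ R A)) :
    DescLib.ModDesc.Coassoc ((rhoMat c).restrictScalars R) := by
  intro v
  let e3 : A ⊗[R] (A ⊗[R] (Fin n → A)) →ₗ[R] (Fin n → A ⊗[R] AA) :=
    (TensorProduct.piRight R A A (fun _ : Fin n => AA)).toLinearMap.restrictScalars R ∘ₗ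
      ((pr n).toLinearMap.restrictScalars R).lTensor A
  have he : Function.Injective e3 := by
    refine (TensorProduct.piRight R A A (fun _ : Fin n => AA)).injective.comp ?_
    exact (LinearEquiv.lTensor A ((pr n).restrictScalars R)).injective
  refine he (funext fun i => ?_)
  have k1 : ∀ z, e3 (((rhoMat c).restrictScalars R).lTensor A z) i =
      ∑ j, c.map (d₀ R A) i j * d₂ R A (pr n z j) := by
    intro z
    induction z using TensorProduct.induction_on with
    | zero => simp
    | tmul a w =>
      show TensorProduct.piRight R A A (fun _ : Fin n => AA) (a ⊗ₜ[R] pr n (rhoMat c w)) i = _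
      rw [TensorProduct.piRight_apply, TensorProduct.piRightHom_tmul]
      beta_reduce
      rw [pr_rhoMat, TensorProduct.tmul_sum]
      refine Finset.sum_congr rfl fun j _ => ?_
      rw [Matrix.map_apply, pr_tmul]
      show a ⊗ₜ[R] (c i j * (w j ⊗ₜ[R] (1 : A))) = ((1 : A) ⊗ₜ[R] c i j) * (a ⊗ₜ[R] (w j ⊗ₜ[R] (1 : A)))
      rw [Algebra.TensorProduct.tmul_mul_tmul, one_mul]
    | add z w hz hw =>
      rw [map_add, map_add, Pi.add_apply, hz, hw, ← Finset.sum_add_distrib]
      refine Finset.sum_congr rfl fun j _ => ?_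
      rw [map_add, Pi.add_apply, map_add, mul_add]
  have k2 : ∀ z, e3 ((TensorProduct.mk R A (Fin n → A) 1).lTensor A z) i = d₁ R A (pr n z i) := by
    intro z
    induction z using TensorProduct.induction_on with
    | zero => simp
    | tmul a w =>
      show TensorProduct.piRight R A A (fun _ : Fin n => AA) (a ⊗ₜ[R] pr n ((1 : A) ⊗ₜ[R] w)) i = _
      rw [TensorProduct.piRight_apply, TensorProduct.piRightHom_tmul]
      beta_reduce
      rw [pr_tmul, pr_tmul]
      rfl
    | add z w hz hw => simp only [map_add, Pi.add_apply, hz, hw]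
  rw [k1, k2]
  show ∑ j, c.map (d₀ R A) i j * d₂ R A (pr n (rhoMat c v) j) = d₁ R A (pr n (rhoMat c v) i)
  simp only [pr_rhoMat, map_sum, map_mul, Finset.mul_sum]
  rw [Finset.sum_comm]
  refine Finset.sum_congr rfl fun l _ => ?_
  rw [show d₁ R A (c i l) = ∑ j, c.map (d₀ R A) i j * c.map (d₂ R A) j l from congrFun (congrFun hcoc i) l,
    Finset.sum_mul]
  refine Finset.sum_congr rfl fun j _ => ?_
  rw [Matrix.map_apply, Matrix.map_apply, mul_assoc]
  rfl

theorem lmul_cocycle {c : Matrix (Fin n) (Fin n) AA} (hc : IsUnit c)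
    (hcoc : c.map (d₁ R A) = c.map (d₀ R A) * c.map (d₂ R A)) :
    c.map (Algebra.TensorProduct.lmul' R : AA →ₐ[R] A) = 1 := by
  let μ : AA →ₐ[R] A := Algebra.TensorProduct.lmul' R
  let m3 : A ⊗[R] AA →ₐ[R] A := μ.comp (Algebra.TensorProduct.map (AlgHom.id R A) μ)
  have e0 : m3.comp (d₀ R A) = μ := by ext a <;> simp [m3, μ]
  have e1 : m3.comp (d₁ R A) = μ := by ext a <;> simp [m3, μ]
  have e2 : m3.comp (d₂ R A) = μ := by ext a <;> simp [m3, μ]
  have hmap : ∀ (f : AA →ₐ[R] A ⊗[R] AA), (c.map f).map m3 = c.map (m3.comp f) := fun f => Matrix.map_map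
  have h := congrArg (fun M : Matrix (Fin n) (Fin n) _ => M.map m3) hcoc
  rw [Matrix.map_mul, hmap, hmap, hmap, e0, e1, e2] at h
  exact (hc.map μ.toRingHom.mapMatrix).mul_eq_left.mp h.symm

theorem counit_rhoMat {c : Matrix (Fin n) (Fin n) AA} (hc : IsUnit c)
    (hcoc : c.map (d₁ R A) = c.map (d₀ R A) * c.map (d₂ R A)) (v : Fin n → A) :
    LinearMap.liftBaseChange A (LinearMap.id : (Fin n → A) →ₗ[R] Fin n → A) (rhoMat c v) = v := by
  have h : ∀ z i, LinearMap.liftBaseChange A (LinearMap.id : (Fin n → A) →ₗ[R] Fin n → A) z i =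
      (Algebra.TensorProduct.lmul' R : AA →ₐ[R] A) (pr n z i) := by
    intro z i
    induction z using TensorProduct.induction_on with
    | zero => simp
    | tmul a w => simp [pr_tmul]
    | add z w hz hw => simp only [map_add, Pi.add_apply, hz, hw]
  funext i
  rw [h, pr_rhoMat, map_sum]
  have h1 := lmul_cocycle hc hcoc
  calc ∑ j, (Algebra.TensorProduct.lmul' R : AA →ₐ[R] A) (c i j * (v j ⊗ₜ[R] (1 : A)))
      = ∑ j, (1 : Matrix (Fin n) (Fin n) A) i j * v j := by
        refine Finset.sum_congr rfl fun j _ => ?_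
        rw [map_mul, ← h1, Matrix.map_apply]
        simp
    _ = v i := by simp [Matrix.one_apply]

/-- A matrix cocycle is a coboundary near each prime of the base. -/
theorem exists_coboundary [Module.FaithfullyFlat R A] (c : Matrix (Fin n) (Fin n) AA) (hc : IsUnit c)
    (hcoc : c.map (d₁ R A) = c.map (d₀ R A) * c.map (d₂ R A)) (p : PrimeSpectrum R) :
    ∃ g : R, g ∉ p.asIdeal ∧ ∃ e : Matrix (Fin n) (Fin n) A,
      e.det ∣ algebraMap R A g ∧ c * e.map (iL R A) = e.map (iR R A) := by
  classical
  obtain ⟨q, hq⟩ := PrimeSpectrum.comap_surjective_of_faithfullyFlat (A := R) (B := A) p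
  have hsurj := (DescLib.ModDesc.bijective_liftBaseChange (rhoMat c)
    DescLib.ModDesc.univInjective_of_faithfullyFlat (coassoc_rhoMat hcoc) (counit_rhoMat hc hcoc)).2
  -- the images of the invariant vectors span the fibre at `q`
  let N := DescLib.ModDesc.inv ((rhoMat c).restrictScalars R)
  let κ := q.asIdeal.ResidueField
  let s : N → (Fin n → κ) := fun m i => algebraMap A κ (m.1 i)
  have hspan : (⊤ : Submodule κ (Fin n → κ)) ≤ Submodule.span κ (Set.range s) := by
    rintro x -
    have hcl : ∀ z : A ⊗[R] N,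
        (fun i => algebraMap A κ (LinearMap.liftBaseChange A N.subtype z i)) ∈ Submodule.span κ (Set.range s) := by
      intro z
      induction z using TensorProduct.induction_on with
      | zero => simp only [map_zero, Pi.zero_apply]; exact Submodule.zero_mem _
      | tmul a m =>
        have h2 : (fun i => algebraMap A κ (LinearMap.liftBaseChange A N.subtype (a ⊗ₜ[R] m) i)) =
            algebraMap A κ a • s m := funext fun i => by simp [s]
        rw [h2]
        exact Submodule.smul_mem _ _ (Submodule.subset_span ⟨m, rfl⟩)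
      | add z w hz hw =>
        simp only [map_add, Pi.add_apply]
        exact Submodule.add_mem _ hz hw
    rw [show x = ∑ i, x i • (fun j => algebraMap A κ ((Pi.single i 1 : Fin n → A) j)) from funext fun j => by
      simp [Pi.single_apply, apply_ite (algebraMap A κ), Finset.sum_apply]]
    refine Submodule.sum_mem _ fun i _ => Submodule.smul_mem _ _ ?_
    obtain ⟨z, hz⟩ := hsurj (Pi.single i 1)
    rw [← hz]
    exact hcl z
  let b := Module.Basis.ofSpan hspan
  let eι := (b.indexEquiv (Pi.basisFun κ (Fin n)))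
  let b' := b.reindex eι
  have hb' : ∀ j, ∃ m : N, s m = b' j := fun j => by
    have h1 : b' j ∈ Set.range s := by
      rw [Module.Basis.reindex_apply]
      exact Module.Basis.ofSpan_subset hspan ⟨_, rfl⟩
    exact h1
  choose m hm using hb'
  let e : Matrix (Fin n) (Fin n) A := Matrix.of fun i j => (m j).1 i
  have he : c * e.map (iL R A) = e.map (iR R A) := by
    ext i j
    have h1 := congrArg (fun z => pr n z i) ((DescLib.ModDesc.mem_inv _).1 (m j).2)
    beta_reduce at h1
    rw [LinearMap.restrictScalars_apply, pr_rhoMat, pr_tmul] at h1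
    rw [Matrix.mul_apply, Matrix.map_apply]
    exact h1
  have hd : algebraMap A κ e.det ≠ 0 := by
    rw [RingHom.map_det]
    have h1 : (algebraMap A κ).mapMatrix e = (Pi.basisFun κ (Fin n)).toMatrix b' := by
      ext i j
      rw [Module.Basis.toMatrix_apply, Pi.basisFun_repr, ← hm j]
      rfl
    rw [h1]
    exact (Matrix.isUnit_det_of_left_inverse ((Module.Basis.toMatrix_mul_toMatrix_flip b' (Pi.basisFun κ (Fin n))))).ne_zero
  -- the ideal of the determinant comes from the base
  let I : Ideal A := Ideal.span {e.det}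
  let J : Ideal R := I.comap (algebraMap R A)
  suffices hJ : ¬ J ≤ p.asIdeal by
    obtain ⟨g, hg, hgp⟩ := SetLike.not_le_iff_exists.mp hJ
    exact ⟨g, hgp, e, Ideal.mem_span_singleton.mp hg, he⟩
  intro hle
  let f : R →ₐ[R] A ⧸ I := Algebra.ofId R (A ⧸ I)
  have hex : Function.Exact (J.subtype.lTensor A) (f.toLinearMap.lTensor A) := by
    refine Module.Flat.lTensor_exact A fun r => ?_
    rw [show f.toLinearMap r = Ideal.Quotient.mk I (algebraMap R A r) from rfl, Ideal.Quotient.eq_zero_iff_mem]
    exact ⟨fun h => ⟨⟨r, h⟩, rfl⟩, fun ⟨⟨r', h'⟩, h⟩ => h ▸ h'⟩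
  have hzero : f.toLinearMap.lTensor A (e.det ⊗ₜ[R] (1 : R)) = 0 := by
    let Φ : AA →ₐ[R] A ⊗[R] (A ⧸ I) := Algebra.TensorProduct.map (AlgHom.id R A) (Ideal.Quotient.mkₐ R I)
    have h1 : c.det * iL R A e.det = iR R A e.det := by
      rw [AlgHom.map_det, AlgHom.map_det, ← Matrix.det_mul]
      exact congrArg Matrix.det he
    have h2 : Φ (iR R A e.det) = 0 := by
      show (1 : A) ⊗ₜ[R] (Ideal.Quotient.mk I e.det) = 0
      rw [Ideal.Quotient.eq_zero_iff_mem.mpr (Ideal.mem_span_singleton_self _), TensorProduct.tmul_zero]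
    rw [← h1, map_mul] at h2
    have h3 := (((Matrix.isUnit_iff_isUnit_det c).mp hc).map Φ).mul_right_eq_zero.mp h2
    rw [← h3]
    simp [Φ, f]
  obtain ⟨z, hz⟩ := (hex _).1 hzero
  have hdq : e.det ∈ q.asIdeal := by
    have h4 : ∀ z : A ⊗[R] J, TensorProduct.rid R A (J.subtype.lTensor A z) ∈ q.asIdeal := by
      intro z
      induction z using TensorProduct.induction_on with
      | zero => simp
      | tmul a r =>
        rw [LinearMap.lTensor_tmul, TensorProduct.rid_tmul, Algebra.smul_def]
        refine q.asIdeal.mul_mem_right _ ?_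
        have h5 : (r : R) ∈ p.asIdeal := hle r.2
        rw [← hq] at h5
        exact h5
      | add z w hz hw => rw [map_add, map_add]; exact q.asIdeal.add_mem hz hw
    have := h4 z
    rw [hz, TensorProduct.rid_tmul, one_smul] at this
    exact this
  exact hd (Ideal.algebraMap_residueField_eq_zero.mpr hdq)

end Groth.Agent.GLnSpecial
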