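import Groth.Prelude.Def_NonAbH2
import Mathlib.AlgebraicGeometry.Sites.Fpqc
import Mathlib.AlgebraicGeometry.Cover.QuasiCompact

/-!
# Trivialising a locally trivial morphism over an affine open by one affine flat cover
-/

set_option autoImplicit false

universe u

open CategoryTheory Limits AlgebraicGeometry

namespace Groth.Agent.GLnSpecial

theorem exists_affine_trivialization {Y : Scheme.{u}} {P : Over Y}
    (hloc : NonAbH1.IsLocallyTrivialFor Scheme.fpqcPrecoverage P) {V : Y.Opens} (hV : IsAffineOpen V) :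
    ∃ (Z : Scheme.{u}) (q : Z ⟶ V.toScheme), IsAffine Z ∧ Flat q ∧ Surjective q ∧
      NonAbH1.HasSectionOver P (q ≫ V.ι) := by
  obtain ⟨R, hR, hsec⟩ := hloc
  obtain ⟨𝒰, rfl⟩ := Precoverage.mem_iff_exists_zeroHypercover.mp hR
  haveI : QuasiCompactCover 𝒰.toPreZeroHypercover := Scheme.presieve₀_mem_qcPrecoverage_iff.mp 𝒰.mem₀.1
  have hflat : ∀ i, Flat (𝒰.f i) := ((Scheme.presieve₀_mem_precoverage_iff _).mp 𝒰.mem₀.2).2
  obtain ⟨n, idx, W, hW, hcov⟩ :=
    QuasiCompactCover.exists_isAffineOpen_of_isCompact 𝒰.toPreZeroHypercover hV.isCompact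
  let Zc : Scheme.{u} := ∐ fun i : ULift.{u} (Fin n) => (W i.down).toScheme
  have : ∀ i : ULift.{u} (Fin n), IsAffine (W i.down).toScheme := fun i => hW i.down
  have hle : ∀ i, Set.range ((W i).ι ≫ 𝒰.f (idx i)) ⊆ Set.range V.ι := by
    intro i
    rw [Scheme.Opens.range_ι, ← hcov]
    rintro _ ⟨x, rfl⟩
    exact Set.mem_iUnion.mpr ⟨i, x.1, x.2, rfl⟩
  let qi : ∀ i, (W i).toScheme ⟶ V.toScheme := fun i => IsOpenImmersion.lift V.ι ((W i).ι ≫ 𝒰.f (idx i)) (hle i)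
  have hqi : ∀ i, qi i ≫ V.ι = (W i).ι ≫ 𝒰.f (idx i) := fun i => IsOpenImmersion.lift_fac _ _ _
  let q : Zc ⟶ V.toScheme := Sigma.desc fun i => qi i.down
  refine ⟨Zc, q, inferInstanceAs (IsAffine (∐ _)), ?_, ?_, ?_⟩
  · refine IsZariskiLocalAtSource.sigmaDesc fun i => ?_
    refine MorphismProperty.of_postcomp (W := @Flat) (W' := @IsOpenImmersion) _ V.ι inferInstance ?_
    rw [hqi]
    haveI := hflat (idx i.down)
    infer_instance
  · refine ⟨fun y => ?_⟩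
    have hy : V.ι y ∈ (V : Set Y) := y.2
    rw [← hcov, Set.mem_iUnion] at hy
    obtain ⟨i, x, hx, hxy⟩ := hy
    refine ⟨(Sigma.ι (fun i : ULift.{u} (Fin n) => (W i.down).toScheme) ⟨i⟩) ⟨x, hx⟩, ?_⟩
    refine V.ι.isOpenEmbedding.injective ?_
    rw [← Scheme.Hom.comp_apply, ← Scheme.Hom.comp_apply, Sigma.ι_desc_assoc, hqi]
    exact hxy
  · have hs : ∀ i, ∃ s : (W i).toScheme ⟶ P.left, s ≫ P.hom = qi i ≫ V.ι := fun i => by
      obtain ⟨s, hs⟩ := hsec (𝒰.f (idx i)) (Presieve.ofArrows.mk _)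
      exact ⟨(W i).ι ≫ s, by rw [Category.assoc, hs, hqi]⟩
    choose s hs using hs
    refine ⟨Sigma.desc fun i => s i.down, Sigma.hom_ext _ _ fun i => ?_⟩
    rw [Sigma.ι_desc_assoc, Sigma.ι_desc_assoc, hs]

end Groth.Agent.GLnSpecial
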