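import Groth.Agent.GrpSchLib.GLnHom

/-!
# Points of the general linear group over a field with values in a ring
-/

set_option autoImplicit false
set_option backward.isDefEq.respectTransparency false
set_option backward.isDefEq.respectTransparency.types false

universe u

open CategoryTheory Limits AlgebraicGeometry MonoidalCategory CartesianMonoidalCategory MonObj

namespace Groth.Agent.GLnSpecial

open Groth.Agent.GrpSchLib Groth.Agent.GrpSchLib.Kunneth

variable {k : Type u} [Field k] {n : ℕ}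

/-- Every point is given by a matrix of functions. -/
theorem exists_matPt {T : Over (Spec (CommRingCat.of k))} (g : T ⟶ FrB.GLn n (Spec (CommRingCat.of k))) :
    ∃ (M : Matrix (Fin n) (Fin n) (Fn T)) (hM : IsUnit M), matPt M hM = g := by
  let σ := IsTerminal.from specULiftZIsTerminal (Spec (CommRingCat.of k))
  obtain ⟨h, rfl⟩ := ((Over.mapPullbackAdj σ).homEquiv T (FrB.GLZ.{u} n)).surjective g
  let ψ : CoordGrp.GLn n (ULift.{u} ℤ) →+* Fn T :=
    ((Scheme.ΓSpecIso (CommRingCat.of (CoordGrp.GLn n (ULift.{u} ℤ)))).inv ≫ h.left.appTop).hom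
  let φ : CoordGrp.GLn n (ULift.{u} ℤ) →ₐ[ULift.{u} ℤ] Fn T :=
    { ψ with
      commutes' := fun c => by
        obtain ⟨z⟩ := c
        exact map_intCast ψ z }
  have hφ : Kunneth.preGL φ = h := by
    refine Over.OverMorphism.ext ?_
    show T.left.toSpecΓ ≫ Spec.map ((Scheme.ΓSpecIso (CommRingCat.of (CoordGrp.GLn n (ULift.{u} ℤ)))).inv ≫
      h.left.appTop) = h.left
    rw [Spec.map_comp, ← Scheme.toSpecΓ_naturality_assoc]
    exact (congrArg (h.left ≫ ·) (toSpecΓ_SpecMap_ΓSpecIso_inv _)).trans (Category.comp_id _)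
  have hu : IsUnit (GLnDiag.mat φ) :=
    (Matrix.isUnit_iff_isUnit_det _).mpr (IsUnit.of_mul_eq_one _ (GLnDiag.det_mat φ))
  refine ⟨GLnDiag.mat φ, hu, ?_⟩
  rw [matPt, show matHom (GLnDiag.mat φ) hu = φ from GLnDiag.ext_mat (mat_matHom _ _), toGL, hφ]

variable {C : Type u} [CommRing C] {D : Type u} [CommRing D]

variable (s : Spec (CommRingCat.of C) ⟶ Spec (CommRingCat.of k))

/-- The functions on a spectrum. -/
noncomputable abbrev γ : C →+* Fn (Over.mk s) := (Scheme.ΓSpecIso (CommRingCat.of C)).inv.hom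

/-- The point given by an invertible matrix over the ring. -/
noncomputable def mkPt (M : Matrix (Fin n) (Fin n) C) (hM : IsUnit M) :
    Over.mk s ⟶ FrB.GLn n (Spec (CommRingCat.of k)) :=
  matPt (M.map (γ s)) (hM.map (γ s).mapMatrix)

theorem mkPt_congr {M N : Matrix (Fin n) (Fin n) C} {hM : IsUnit M} {hN : IsUnit N} (h : M = N) :
    mkPt s M hM = mkPt s N hN := by
  subst h; rfl

theorem mkPt_mul (M N : Matrix (Fin n) (Fin n) C) (hM : IsUnit M) (hN : IsUnit N) :
    mkPt s M hM * mkPt s N hN = mkPt s (M * N) (hM.mul hN) :=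
  (matPt_mul _ _ _ _).trans (matPt_congr Matrix.map_mul.symm)

theorem mkPt_injective {M N : Matrix (Fin n) (Fin n) C} {hM : IsUnit M} {hN : IsUnit N}
    (h : mkPt s M hM = mkPt s N hN) : M = N :=
  Matrix.map_injective ((ConcreteCategory.bijective_of_isIso (Scheme.ΓSpecIso (CommRingCat.of C)).inv).1)
    (matPt_injective h)

theorem exists_mkPt (g : Over.mk s ⟶ FrB.GLn n (Spec (CommRingCat.of k))) :
    ∃ (M : Matrix (Fin n) (Fin n) C) (hM : IsUnit M), mkPt s M hM = g := by
  obtain ⟨M, hM, rfl⟩ := exists_matPt g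
  let δ : Fn (Over.mk s) →+* C := (Scheme.ΓSpecIso (CommRingCat.of C)).hom.hom
  have h : ∀ x, γ s (δ x) = x := fun x => (Scheme.ΓSpecIso (CommRingCat.of C)).hom_inv_id_apply x
  refine ⟨M.map δ, hM.map δ.mapMatrix, matPt_congr ?_⟩
  ext i j
  exact h _

theorem comp_mkPt {t : Spec (CommRingCat.of D) ⟶ Spec (CommRingCat.of k)} (u : Over.mk t ⟶ Over.mk s) (f : C →+* D)
    (hu : u.left = Spec.map (CommRingCat.ofHom f)) (M : Matrix (Fin n) (Fin n) C) (hM : IsUnit M) :
    u ≫ mkPt s M hM = mkPt t (M.map f) (hM.map f.mapMatrix) := by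
  refine (comp_matPt u _ _).trans (matPt_congr ?_)
  ext i j
  show u.left.appTop (γ s (M i j)) = γ t (f (M i j))
  rw [hu]
  exact (congrArg (fun k => k (M i j)) (Scheme.ΓSpecIso_inv_naturality (CommRingCat.ofHom f))).symm

end Groth.Agent.GLnSpecial
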