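import Groth.Agent.GLnSpecial.Coboundary
import Groth.Agent.GLnSpecial.Cover
import Groth.Agent.GLnSpecial.Points
import Groth.Agent.GrpSchLib.Action
import Mathlib.AlgebraicGeometry.Morphisms.Flat
import Mathlib.AlgebraicGeometry.EffectiveEpi

/-!
# The general linear group over a field is special
-/

set_option autoImplicit false
set_option linter.style.haveILetI false
set_option backward.isDefEq.respectTransparency false
set_option backward.isDefEq.respectTransparency.types false

universe u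

open CategoryTheory Limits AlgebraicGeometry MonoidalCategory CartesianMonoidalCategory MonObj
open scoped TensorProduct

namespace Groth.Agent.GLnSpecial

open Groth.Agent.GrpSchLib

variable {k : Type u} [Field k] {n : ℕ} {X Y : Over (Spec (CommRingCat.of k))}
  (a : AlgGrp.Action (FrB.GLn n (Spec (CommRingCat.of k))) X) (φ : X ⟶ Y)
  (hcart : IsPullback a.act (snd (FrB.GLn n (Spec (CommRingCat.of k))) X) φ φ)

variable {R : Type u} [CommRing R] (jR : Spec (CommRingCat.of R) ⟶ Y.left)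

omit [Field k] in
theorem matrix_rel {D : Type u} [CommRing D] (F₁ C E₁ E₂ F₂ : Matrix (Fin n) (Fin n) D) (h1 : F₁ * E₁ = 1)
    (h2 : E₂ * F₂ = 1) (h : C * E₂ = E₁) : F₁ * C = F₂ := by
  calc F₁ * C = F₁ * (C * (E₂ * F₂)) := by rw [h2, Matrix.mul_one]
    _ = (F₁ * E₁) * F₂ := by rw [← Matrix.mul_assoc C, h, ← Matrix.mul_assoc]
    _ = F₂ := by rw [h1, Matrix.one_mul]

/-- The structure map of a spectrum over an affine piece. -/
noncomputable abbrev sStr (C : Type u) [CommRing C] [Algebra R C] : Spec (CommRingCat.of C) ⟶ Spec (CommRingCat.of k) :=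
  (Spec.map (CommRingCat.ofHom (algebraMap R C)) ≫ jR) ≫ Y.hom

/-- The map to the base. -/
noncomputable def toY (C : Type u) [CommRing C] [Algebra R C] : Over.mk (sStr (k := k) jR C) ⟶ Y :=
  Over.homMk (Spec.map (CommRingCat.ofHom (algebraMap R C)) ≫ jR) rfl

/-- The map of spectra. -/
noncomputable def mp {C D : Type u} [CommRing C] [Algebra R C] [CommRing D] [Algebra R D] (f : C →ₐ[R] D) :
    Over.mk (sStr (k := k) jR D) ⟶ Over.mk (sStr (k := k) jR C) :=
  Over.homMk (Spec.map (CommRingCat.ofHom f.toRingHom)) (by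
    show Spec.map _ ≫ (Spec.map _ ≫ _) ≫ _ = (Spec.map _ ≫ _) ≫ _
    simp only [Category.assoc, ← Spec.map_comp_assoc]
    congr 2
    ext1
    exact f.comp_algebraMap)

theorem mp_toY {C D : Type u} [CommRing C] [Algebra R C] [CommRing D] [Algebra R D] (f : C →ₐ[R] D) :
    mp (k := k) jR f ≫ toY jR C = toY jR D := by
  apply Over.OverMorphism.ext
  show Spec.map _ ≫ Spec.map _ ≫ _ = Spec.map _ ≫ _
  rw [← Spec.map_comp_assoc]
  congr 2
  ext1
  exact f.comp_algebraMap

theorem mp_comp {B C D : Type u} [CommRing B] [Algebra R B] [CommRing C] [Algebra R C] [CommRing D] [Algebra R D]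
    (g : B →ₐ[R] C) (f : C →ₐ[R] D) : mp (k := k) jR f ≫ mp jR g = mp jR (f.comp g) := by
  apply Over.OverMorphism.ext
  show Spec.map _ ≫ Spec.map _ = Spec.map _
  rw [← Spec.map_comp]
  rfl

omit [Field k] in
theorem isUnit_mapHom {C D : Type u} [CommRing C] [Algebra R C] [CommRing D] [Algebra R D] (f : C →ₐ[R] D)
    {M : Matrix (Fin n) (Fin n) C} (hM : IsUnit M) : IsUnit (M.map f) :=
  hM.map f.toRingHom.mapMatrix

theorem mp_mkPt {C D : Type u} [CommRing C] [Algebra R C] [CommRing D] [Algebra R D] (f : C →ₐ[R] D)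
    (M : Matrix (Fin n) (Fin n) C) (hM : IsUnit M) :
    mp (k := k) jR f ≫ mkPt (sStr jR C) M hM = mkPt (sStr jR D) (M.map f) (isUnit_mapHom f hM) :=
  comp_mkPt _ _ f.toRingHom rfl M hM

/-- The translate of a point. -/
noncomputable def tr {T : Over (Spec (CommRingCat.of k))} (g : T ⟶ FrB.GLn n (Spec (CommRingCat.of k))) (b : T ⟶ X) :
    T ⟶ X :=
  lift g b ≫ a.act

theorem comp_tr {T T' : Over (Spec (CommRingCat.of k))} (q : T' ⟶ T) (g : T ⟶ FrB.GLn n (Spec (CommRingCat.of k)))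
    (b : T ⟶ X) : q ≫ tr a g b = tr a (q ≫ g) (q ≫ b) := by
  rw [tr, tr, ← Category.assoc, comp_lift]

theorem tr_tr {T : Over (Spec (CommRingCat.of k))} (g g' : T ⟶ FrB.GLn n (Spec (CommRingCat.of k))) (b : T ⟶ X) :
    tr a g (tr a g' b) = tr a (g * g') b :=
  act_mul a g g' b

include hcart

theorem tr_φ {T : Over (Spec (CommRingCat.of k))} (g : T ⟶ FrB.GLn n (Spec (CommRingCat.of k))) (b : T ⟶ X) :
    tr a g b ≫ φ = b ≫ φ := by
  rw [tr, Category.assoc, hcart.w, lift_snd_assoc]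

theorem exists_diff {T : Over (Spec (CommRingCat.of k))} {b b' : T ⟶ X} (h : b' ≫ φ = b ≫ φ) :
    ∃ g, tr a g b = b' :=
  ⟨hcart.lift b' b h ≫ fst _ _, by
    refine Eq.trans ?_ (hcart.lift_fst b' b h)
    rw [tr]
    congr 1
    ext1
    · rw [lift_fst]
    · rw [lift_snd]; exact (hcart.lift_snd b' b h).symm⟩

theorem diff_unique {T : Over (Spec (CommRingCat.of k))} {g g' : T ⟶ FrB.GLn n (Spec (CommRingCat.of k))} {b : T ⟶ X}
    (h : tr a g b = tr a g' b) : g = g' := by
  have := hcart.hom_ext (k := lift g b) (l := lift g' b) h (by rw [lift_snd, lift_snd])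
  simpa using congrArg (· ≫ fst _ _) this

variable (A : Type u) [CommRing A] [Algebra R A] [Module.FaithfullyFlat R A]

omit [Module.FaithfullyFlat R A] in
/-- A coboundary over a faithfully flat extension gives a section over its base. -/
theorem exists_descent (b : Over.mk (sStr (k := k) jR A) ⟶ X) (hb : b ≫ φ = toY jR A)
    (c : Matrix (Fin n) (Fin n) (A ⊗[R] A)) (hc : IsUnit c)
    (hd : ∀ {C : Type u} [CommRing C] [Algebra R C] (f : A ⊗[R] A →ₐ[R] C),
      tr a (mkPt (sStr (k := k) jR C) (c.map f) (isUnit_mapHom f hc)) (mp jR (f.comp (iL R A)) ≫ b) =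
        mp jR (f.comp (iR R A)) ≫ b)
    (e : Matrix (Fin n) (Fin n) A) (he : c * e.map (iL R A) = e.map (iR R A))
    (R' A' : Type u) [CommRing R'] [CommRing A'] [Algebra R R'] [Algebra R A'] [Algebra R' A'] [IsScalarTower R R' A']
    [Module.FaithfullyFlat R' A'] (j : A →ₐ[R] A') (hu : IsUnit (e.map j)) :
    ∃ σ : Spec (CommRingCat.of R') ⟶ X.left,
      σ ≫ φ.left = Spec.map (CommRingCat.ofHom (algebraMap R R')) ≫ jR := by
  let e' : Matrix (Fin n) (Fin n) A' := e.map j
  obtain ⟨f', hfe, hef⟩ := isUnit_iff_exists.mp hu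
  let w : A' →ₐ[R] A' ⊗[R] A' := Algebra.TensorProduct.includeRight
  let v : A' →ₐ[R] A' ⊗[R] A' := Algebra.TensorProduct.includeLeft
  let m : A ⊗[R] A →ₐ[R] A' ⊗[R] A' := Algebra.TensorProduct.map j j
  have mR : m.comp (iR R A) = w.comp j := by ext x; simp [m, w]
  have mL : m.comp (iL R A) = v.comp j := by ext x; simp [m, v]
  have hf' : IsUnit f' := ⟨⟨f', e', hef, hfe⟩, rfl⟩
  have hrel : c.map m * e'.map v = e'.map w := by
    have h := congrArg (fun M : Matrix (Fin n) (Fin n) (A ⊗[R] A) => M.map m) he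
    rw [Matrix.map_mul, Matrix.map_map, Matrix.map_map] at h
    show c.map m * (e.map j).map v = (e.map j).map w
    rw [Matrix.map_map, Matrix.map_map]
    exact (congrArg (fun F : A →ₐ[R] A' ⊗[R] A' => c.map m * e.map F) mL.symm).trans
      (h.trans (congrArg (fun F : A →ₐ[R] A' ⊗[R] A' => e.map F) mR))
  have hrel' : f'.map w * c.map m = f'.map v := by
    have h1 : f'.map w * e'.map w = 1 := by
      exact (RingHom.map_mul w.toRingHom.mapMatrix f' e').symm.trans
        ((congrArg _ hef).trans (RingHom.map_one w.toRingHom.mapMatrix))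
    have h2 : e'.map v * f'.map v = 1 := by
      exact (RingHom.map_mul v.toRingHom.mapMatrix e' f').symm.trans
        ((congrArg _ hfe).trans (RingHom.map_one v.toRingHom.mapMatrix))
    exact matrix_rel _ _ _ _ _ h1 h2 hrel
  let b' := tr a (mkPt (sStr (k := k) jR A') f' hf') (mp jR j ≫ b)
  have key : mp jR w ≫ b' = mp jR v ≫ b' := by
    rw [comp_tr, comp_tr, mp_mkPt, mp_mkPt, ← Category.assoc, ← Category.assoc, mp_comp, mp_comp, ← mR, ← mL,
      ← hd m, tr_tr, mkPt_mul]
    exact congrArg (fun g => tr a g _) (mkPt_congr _ hrel')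
  -- descend
  let q := Spec.map (CommRingCat.ofHom (algebraMap R' A'))
  obtain ⟨_, _⟩ : Flat q ∧ Surjective q :=
    (flat_and_surjective_SpecMap_iff _).mpr (RingHom.faithfullyFlat_algebraMap_iff.mpr inferInstance)
  have hcomp : ∀ {W : Scheme.{u}} (g₁ g₂ : W ⟶ Spec (CommRingCat.of A')), g₁ ≫ q = g₂ ≫ q →
      g₁ ≫ b'.left = g₂ ≫ b'.left := by
    intro W g₁ g₂ hgg
    have hw : g₁ ≫ Spec.map (CommRingCat.ofHom (algebraMap R A')) =
        g₂ ≫ Spec.map (CommRingCat.ofHom (algebraMap R A')) := by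
      rw [show CommRingCat.ofHom (algebraMap R A') = CommRingCat.ofHom (algebraMap R R') ≫
        CommRingCat.ofHom (algebraMap R' A') from CommRingCat.hom_ext (IsScalarTower.algebraMap_eq R R' A'),
        Spec.map_comp, ← Category.assoc, ← Category.assoc, hgg]
    let l := pullback.lift g₁ g₂ hw ≫ (pullbackSpecIso R A' A').hom
    have h₁ : l ≫ (mp (k := k) jR v).left = g₁ := by
      show l ≫ Spec.map (CommRingCat.ofHom Algebra.TensorProduct.includeLeftRingHom) = g₁
      rw [← pullbackSpecIso_inv_fst]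
      simp [l]
    have h₂ : l ≫ (mp (k := k) jR w).left = g₂ := by
      show l ≫ Spec.map (CommRingCat.ofHom ((Algebra.TensorProduct.includeRight : A' →ₐ[R] A' ⊗[R] A') : A' →+* A' ⊗[R] A')) = g₂
      rw [← pullbackSpecIso_inv_snd]
      simp [l]
    rw [← h₁, ← h₂]
    exact (Category.assoc _ _ _).trans ((congrArg (fun k => l ≫ k.left) key.symm).trans (Category.assoc _ _ _).symm)
  let σ := EffectiveEpi.desc q b'.left hcomp
  refine ⟨σ, ?_⟩
  rw [← cancel_epi q, ← Category.assoc, EffectiveEpi.fac q b'.left hcomp, ← Over.comp_left, tr_φ a φ hcart,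
    Category.assoc, hb, mp_toY]
  show Spec.map _ ≫ jR = q ≫ Spec.map _ ≫ jR
  rw [← Category.assoc, ← Spec.map_comp]
  congr 2
  exact CommRingCat.hom_ext (IsScalarTower.algebraMap_eq R R' A')


/-- A torsor trivial on a faithfully flat cover of an affine piece is trivial on a principal open near each point. -/
theorem exists_section_away (b : Over.mk (sStr (k := k) jR A) ⟶ X) (hb : b ≫ φ = toY jR A) (p : PrimeSpectrum R) :
    ∃ g : R, g ∉ p.asIdeal ∧ ∃ σ : Spec (CommRingCat.of (Localization.Away g)) ⟶ X.left,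
      σ ≫ φ.left = Spec.map (CommRingCat.ofHom (algebraMap R (Localization.Away g))) ≫ jR := by
  have hbf : ∀ {C : Type u} [CommRing C] [Algebra R C] (f f' : A →ₐ[R] C),
      (mp jR f ≫ b) ≫ φ = (mp jR f' ≫ b) ≫ φ := fun f f' => by
    rw [Category.assoc, Category.assoc, hb, mp_toY, mp_toY]
  obtain ⟨g₁, hg₁⟩ := exists_diff a φ hcart (hbf (iR R A) (iL R A))
  obtain ⟨c, hc, rfl⟩ := exists_mkPt _ g₁
  have hd : ∀ {C : Type u} [CommRing C] [Algebra R C] (f : A ⊗[R] A →ₐ[R] C),
      tr a (mkPt _ (c.map f) (isUnit_mapHom f hc)) (mp jR (f.comp (iL R A)) ≫ b) =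
        mp jR (f.comp (iR R A)) ≫ b := fun f => by
    rw [← mp_mkPt jR f c hc, ← mp_comp jR (iR R A) f, ← mp_comp jR (iL R A) f, Category.assoc, Category.assoc,
      ← comp_tr, hg₁]
  have hcoc : c.map (d₁ R A) = c.map (d₀ R A) * c.map (d₂ R A) := by
    have e02 : (d₂ R A).comp (iR R A) = (d₀ R A).comp (iL R A) := by ext x; simp
    have e01 : (d₁ R A).comp (iR R A) = (d₀ R A).comp (iR R A) := by ext x; simp
    have e12 : (d₁ R A).comp (iL R A) = (d₂ R A).comp (iL R A) := by ext x; simp [Algebra.TensorProduct.one_def]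
    refine mkPt_injective (sStr (k := k) jR (A ⊗[R] (A ⊗[R] A))) (hM := isUnit_mapHom (d₁ R A) hc)
      (hN := (isUnit_mapHom (d₀ R A) hc).mul (isUnit_mapHom (d₂ R A) hc)) ?_
    refine diff_unique a φ hcart (b := mp jR ((d₂ R A).comp (iL R A)) ≫ b) ?_
    rw [← mkPt_mul (sStr (k := k) jR (A ⊗[R] (A ⊗[R] A))) _ _ (isUnit_mapHom (d₀ R A) hc) (isUnit_mapHom (d₂ R A) hc),
      ← tr_tr, hd, e02, hd]
    have := hd (d₁ R A)
    rw [e12, e01] at this
    exact this
  obtain ⟨g, hgp, e, hdvd, he⟩ := exists_coboundary c hc hcoc p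
  refine ⟨g, hgp, ?_⟩
  let j : A →ₐ[R] Localization.Away g ⊗[R] A := Algebra.TensorProduct.includeRight
  refine exists_descent a φ hcart jR A b hb c hc hd e he (Localization.Away g) (Localization.Away g ⊗[R] A) j ?_
  rw [Matrix.isUnit_iff_isUnit_det]
  show IsUnit (j.toRingHom.mapMatrix e).det
  rw [← RingHom.map_det]
  refine isUnit_of_dvd_unit (map_dvd j.toRingHom hdvd) ?_
  rw [AlgHom.toRingHom_eq_coe, RingHom.coe_coe, AlgHom.commutes,
    IsScalarTower.algebraMap_apply R (Localization.Away g) (Localization.Away g ⊗[R] A)]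
  exact (IsLocalization.Away.algebraMap_isUnit g).map _

omit A

include φ in
/-- The general linear group over a field is special. -/
theorem isLocallyTrivial_zariski
    (hloc : NonAbH1.IsLocallyTrivialFor Scheme.fpqcPrecoverage (Over.mk φ.left : Over Y.left)) :
    NonAbH1.IsLocallyTrivialFor Scheme.zariskiPrecoverage (Over.mk φ.left : Over Y.left) := by
  have H : ∀ y : Y.left, ∃ (U : Y.left.Opens), y ∈ U ∧ ∃ s : U.toScheme ⟶ X.left, s ≫ φ.left = U.ι := by
    intro y
    obtain ⟨_, ⟨V, hV, rfl⟩, hyV, -⟩ :=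
      Y.left.isBasis_affineOpens.exists_subset_of_mem_open (Set.mem_univ y) isOpen_univ
    replace hV : IsAffineOpen (X := Y.left) V := hV
    obtain ⟨Z, q, hZ, hq₁, hq₂, s, hs⟩ := exists_affine_trivialization hloc hV
    let R₀ := Γ(Y.left, V)
    let A₀ := Γ(Z, ⊤)
    obtain ⟨ψ, hψ⟩ := Spec.map_surjective (Z.isoSpec.inv ≫ q ≫ hV.isoSpec.hom)
    letI : Algebra R₀ A₀ := ψ.hom.toAlgebra
    haveI : Module.FaithfullyFlat R₀ A₀ := by
      refine RingHom.faithfullyFlat_algebraMap_iff.mp ((flat_and_surjective_SpecMap_iff ψ).mp ?_)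
      rw [hψ]
      exact ⟨inferInstance, inferInstance⟩
    have hι : Spec.map ψ ≫ hV.fromSpec = Z.isoSpec.inv ≫ q ≫ (Scheme.Opens.ι V) := by
      rw [hψ, ← hV.isoSpec_inv_ι]
      simp only [Category.assoc, Iso.hom_inv_id_assoc]
    have hs' : s ≫ φ.left = q ≫ (Scheme.Opens.ι V) := hs
    let b : Over.mk (sStr (k := k) (R := R₀) hV.fromSpec A₀) ⟶ X := Over.homMk (Z.isoSpec.inv ≫ s) (by
      show (Z.isoSpec.inv ≫ s) ≫ X.hom = (Spec.map ψ ≫ hV.fromSpec) ≫ Y.hom
      rw [← Over.w φ, Category.assoc, reassoc_of% hs', hι]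
      simp only [Category.assoc])
    have hb : b ≫ φ = toY (R := R₀) hV.fromSpec A₀ := by
      apply Over.OverMorphism.ext
      show (Z.isoSpec.inv ≫ s) ≫ φ.left = Spec.map ψ ≫ hV.fromSpec
      rw [Category.assoc, hs', hι]
    obtain ⟨g, hgp, σ, hσ⟩ := exists_section_away a φ hcart (R := R₀) hV.fromSpec A₀ b hb (hV.primeIdealOf ⟨y, hyV⟩)
    let j := Spec.map (CommRingCat.ofHom (algebraMap R₀ (Localization.Away g))) ≫ hV.fromSpec
    refine ⟨j.opensRange, ?_, j.isoOpensRange.inv ≫ σ, ?_⟩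
    · have h1 : hV.primeIdealOf ⟨y, hyV⟩ ∈
          Set.range (PrimeSpectrum.comap (algebraMap R₀ (Localization.Away g))) := by
        rw [PrimeSpectrum.localization_away_comap_range (Localization.Away g) g]
        exact hgp
      obtain ⟨P, hP⟩ := h1
      exact ⟨P, (congrArg hV.fromSpec hP).trans (hV.fromSpec_primeIdealOf ⟨y, hyV⟩)⟩
    · rw [Category.assoc, hσ]
      exact Scheme.Hom.isoOpensRange_inv_comp j
  choose U hU s hs using H
  refine ⟨Presieve.ofArrows (fun y => (U y).toScheme) (fun y => (U y).ι), ?_, fun S' f hf => ?_⟩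
  · rw [Scheme.zariskiPrecoverage, Scheme.ofArrows_mem_precoverage_iff]
    exact ⟨fun y => ⟨y, ⟨y, hU y⟩, rfl⟩, fun y => inferInstance⟩
  · obtain ⟨y⟩ := hf
    exact ⟨s y, hs y⟩

end Groth.Agent.GLnSpecial
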